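import Groth.Agent.EGA43.K63.FibreFlatIff
import Groth.Agent.Lim8.K116.GenFlat
import Groth.Agent.Cons9.K119.ConstrPair
import Groth.Agent.EGA43.K124.ConstFibre
import Groth.Agent.ConsProp.K285.Model
import Groth.Agent.Flat2B.GExSC3
import Groth.Agent.ConsPropPair.K286.NoethModel
import Groth.Agent.Ega43.LocusElem

/-!
# Constructibility of the set of points over which the restriction of a module to the fibre is flat

`isLocallyConstructible_ff`: `f : X ⟶ Y`, `h : Y ⟶ S`, with `h` and `f ≫ h` of finite presentation and `F` a finitely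
presented module on `X`: the set of the points `s` such that `F_s` is flat over `Y_s` is locally constructible.
-/

set_option autoImplicit false
universe u

open AlgebraicGeometry CategoryTheory CategoryTheory.Limits TopologicalSpace Topology

namespace K63.FibreFlatConstr

open Groth.Agent K63.FibreFlatIff Groth.Agent.Flat2D.ConstrNoeth

/-- Where `F` is flat over `S`, fibrewise flatness over `Y` is flatness over `Y`. -/
theorem quotFlat_iff_of_flat {X Y S : Scheme.{u}} (f : X ⟶ Y) (h : Y ⟶ S) [LocallyOfFinitePresentation (f ≫ h)]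
    [LocallyOfFiniteType h] (F : X.Modules) (hq : Coh.IsQCoh F) (hfp : CohB1.IsFP F) (x : X)
    (hx : FlatMod.IsFlatOverAt (f ≫ h) F x) : QuotFlat f h F x ↔ FlatMod.IsFlatOverAt f F x := by
  constructor
  · intro H
    by_cases hn : Nontrivial ↑(F.presheaf.stalk x)
    · exact ((S1483.result f h F hq hfp x hn).mp ⟨hx, H⟩).2
    · rw [not_nontrivial_iff_subsingleton] at hn
      let := FlatMod.moduleStalkOver f F x
      exact (inferInstance : Module.Flat (Y.presheaf.stalk (f x)) (F.presheaf.stalk x))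
  · intro H
    rw [quotFlat_iff_asFiber]
    refine Fdesc.FlatBC.isFlatOverAt_pullback (S1441.isPullback_fiberMap_fiberι f h ((f ≫ h) x)).flip F _ ?_
    have h1 : (f ≫ h).fiberι ((f ≫ h) x) ((f ≫ h).asFiber x) = x := (f ≫ h).fiberι_asFiber x
    rw [h1]
    exact H

/-- Constancy near the generic point of an integral base. -/
theorem exists_open {X Y S : Scheme.{u}} (f : X ⟶ Y) (h : Y ⟶ S) [IsIntegral S] [IsNoetherian S]
    [LocallyOfFiniteType (f ≫ h)] [QuasiCompact (f ≫ h)] [LocallyOfFiniteType h]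
    (F : X.Modules) (hfp : CohB1.IsFP F) :
    ∃ V : S.Opens, genericPoint S ∈ V ∧ ∀ s ∈ V, FF f h F s = FF f h F (genericPoint S) := by
  have hF : Coh.IsCoh F := Models2.FPCoh.isCoh_of_isFP hfp
  have hlfp : LocallyOfFinitePresentation (f ≫ h) := LocallyOfFinitePresentation.iff_locallyOfFiniteType.mpr ‹_›
  have hlfpf : LocallyOfFinitePresentation f := Ega43.FPOfComp.locallyOfFinitePresentation_of_comp f h
  have hXN : IsLocallyNoetherian X := LocallyOfFiniteType.isLocallyNoetherian (f ≫ h)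
  have hXc : CompactSpace X := QuasiCompact.compactSpace_of_compactSpace (f ≫ h)
  have hXN' : IsNoetherian X := {}
  obtain ⟨V₀, hne, hV₀⟩ := K116.GenFlat.main (f ≫ h) F hF.1 hF.2
  have hηV : genericPoint S ∈ V₀ := (genericPoint_spec S).mem_open_set_iff V₀.2 |>.mpr (by simpa using hne)
  have key : ∀ x : X, (f ≫ h) x ∈ V₀ → (QuotFlat f h F x ↔ FlatMod.IsFlatOverAt f F x) :=
    fun x hx => quotFlat_iff_of_flat f h F hF.1 hfp x (hV₀ x hx)
  let O : Set X := {x : X | FlatMod.IsFlatOverAt f F x}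
  have hO : IsOpen O := Flat2G.FlatLocus.isOpen_flatLocus f F hF.1 hfp
  have hOc : IsLocallyConstructible Oᶜ := by
    refine (IsConstructible.compl ?_).isLocallyConstructible
    exact IsRetrocompact.isConstructible hO (fun _ _ _ => NoetherianSpace.isCompact _)
  have hC : IsLocallyConstructible ((f ≫ h) '' Oᶜ) := (f ≫ h).isLocallyConstructible_image hOc
  by_cases hη : FF f h F (genericPoint S)
  · have hnot : genericPoint S ∉ (f ≫ h) '' Oᶜ := by
      rintro ⟨x, hx, hxη⟩
      exact hx ((key x (by rw [hxη]; exact hηV)).mp ((ff_iff f h F _).mp hη x hxη))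
    have hnh : ((f ≫ h) '' Oᶜ)ᶜ ∈ nhds (genericPoint S) := by
      refine K124.ConstFibre.mem_nhds_of_isLocallyConstructible
        (Ega43.LocusElem.isLocallyConstructible_compl hC) fun z hz => ?_
      have : z = genericPoint S := ((genericPoint_specializes z).antisymm hz).eq.symm
      rw [this]
      exact hnot
    obtain ⟨V₁, hV₁, hV₁o, hηV₁⟩ := mem_nhds_iff.mp hnh
    refine ⟨V₀ ⊓ ⟨V₁, hV₁o⟩, ⟨hηV, hηV₁⟩, fun s hs => ?_⟩
    refine propext ⟨fun _ => hη, fun _ => (ff_iff f h F s).mpr fun x hx => (key x (by rw [hx]; exact hs.1)).mpr ?_⟩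
    by_contra hxO
    exact hV₁ hs.2 ⟨x, hxO, hx⟩
  · have hin : genericPoint S ∈ (f ≫ h) '' Oᶜ := by
      rw [ff_iff] at hη
      push Not at hη
      obtain ⟨x, hx, hxn⟩ := hη
      exact ⟨x, fun hxO => hxn ((key x (by rw [hx]; exact hηV)).mpr hxO), hx⟩
    have hnh : ((f ≫ h) '' Oᶜ) ∈ nhds (genericPoint S) := by
      refine K124.ConstFibre.mem_nhds_of_isLocallyConstructible hC fun z hz => ?_
      have : z = genericPoint S := ((genericPoint_specializes z).antisymm hz).eq.symm
      rw [this]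
      exact hin
    obtain ⟨V₁, hV₁, hV₁o, hηV₁⟩ := mem_nhds_iff.mp hnh
    refine ⟨V₀ ⊓ ⟨V₁, hV₁o⟩, ⟨hηV, hηV₁⟩, fun s hs => ?_⟩
    refine propext ⟨fun hs' => ?_, fun hη' => absurd hη' hη⟩
    exfalso
    obtain ⟨x, hxO, hxs⟩ := hV₁ hs.2
    exact hxO ((key x (by rw [hxs]; exact hs.1)).mp ((ff_iff f h F s).mp hs' x hxs))

theorem finConstr_of_isNoetherian {X Y S : Scheme.{u}} (f : X ⟶ Y) (h : Y ⟶ S) [IsNoetherian S]
    [LocallyOfFiniteType (f ≫ h)] [QuasiCompact (f ≫ h)] [LocallyOfFiniteType h]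
    (F : X.Modules) (hfp : CohB1.IsFP F) : FinConstr (fun s : S => FF f h F s) := by
  refine finConstr_of_noetherian (fun s : S => FF f h F s) fun y => ?_
  obtain ⟨Z, i, hi, hZ, hgen, hrange⟩ := CycA.ClosurePt.exists_closure_subscheme y
  have hZN : IsLocallyNoetherian Z := LocallyOfFiniteType.isLocallyNoetherian i
  have hZc : CompactSpace Z := QuasiCompact.compactSpace_of_compactSpace i
  have hZN' : IsNoetherian Z := {}
  let gY : pullback h i ⟶ Y := pullback.fst h i
  let h' : pullback h i ⟶ Z := pullback.snd h i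
  let gX : pullback f gY ⟶ X := pullback.fst f gY
  let f' : pullback f gY ⟶ pullback h i := pullback.snd f gY
  have hY : IsPullback gY h' h i := IsPullback.of_hasPullback h i
  have hXY : IsPullback gX f' f gY := IsPullback.of_hasPullback f gY
  have hX : IsPullback gX (f' ≫ h') (f ≫ h) i := hXY.paste_vert hY
  have a1 : LocallyOfFiniteType (f' ≫ h') := MorphismProperty.of_isPullback (P := @LocallyOfFiniteType) hX ‹_›
  have a2 : QuasiCompact (f' ≫ h') := MorphismProperty.of_isPullback (P := @QuasiCompact) hX ‹_›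
  have a3 : LocallyOfFiniteType h' := MorphismProperty.of_isPullback (P := @LocallyOfFiniteType) hY ‹_›
  have hFP : CohB1.IsFP ((Scheme.Modules.pullback gX).obj F) := FormalA.PullbackQC.isFP_pullback _ _ hfp
  obtain ⟨V, hηV, hV⟩ := exists_open f' h' ((Scheme.Modules.pullback gX).obj F) hFP
  have hie : Topology.IsEmbedding i := i.isEmbedding
  refine ⟨i '' V, ?_, ⟨_, hηV, hgen⟩, ?_, ?_⟩
  · rw [← hrange]; exact Set.image_subset_range _ _
  · obtain ⟨O, hO, hOV⟩ := hie.isInducing.isOpen_iff.mp V.isOpen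
    have : (Subtype.val ⁻¹' (i '' V) : Set ↑(closure ({y} : Set ↑S))) = Subtype.val ⁻¹' O := by
      ext ⟨z, hz⟩
      constructor
      · rintro ⟨v, hv, hvz⟩
        change z ∈ O
        have hvz : i v = z := hvz
        rw [← hvz]
        change v ∈ i ⁻¹' O
        rw [hOV]; exact hv
      · intro (hzO : z ∈ O)
        rw [← hrange] at hz
        obtain ⟨v, rfl⟩ := hz
        refine ⟨v, ?_, rfl⟩
        rw [← hOV]; exact hzO
    rw [this]
    exact hO.preimage continuous_subtype_val
  · rintro _ ⟨v, hv, rfl⟩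
    have h1 := propext (ff_baseChange_iff (F := F) i gY h' hY gX f' hX hXY.w v)
    have h2 := propext (ff_baseChange_iff (F := F) i gY h' hY gX f' hX hXY.w (genericPoint Z))
    rw [hgen] at h2
    change FF f h F (i v) = FF f h F y
    rw [← h1, ← h2]
    exact hV v hv

/-- The general case: the base is affine and the source is a base change of `S`. -/
theorem exists_stage {X Y : Scheme.{u}} {A : CommRingCat.{u}} (f : X ⟶ Y) (h : Y ⟶ Spec A)
    [LocallyOfFinitePresentation (f ≫ h)] [QuasiCompact (f ≫ h)] [QuasiSeparated (f ≫ h)]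
    [LocallyOfFinitePresentation h] [QuasiCompact h] [QuasiSeparated h] (F : X.Modules) (hfp : CohB1.IsFP F) :
    ∃ (S₀ : Scheme.{u}) (t : Spec A ⟶ S₀) (E₀ : Set S₀), IsLocallyConstructible E₀ ∧
      ∀ s, FF f h F s ↔ t s ∈ E₀ := by
  obtain ⟨A₀, hA₀, t₀, X₀, Y₀, φ₀, g₀, p, q, hq, hp, a1, a2, a3, a4, a5, a6⟩ := K285.Model.exists_mor_Spec A f h
  let _ : Algebra A₀ A := (Spec.preimage t₀).hom.toAlgebra
  have ht₀ : t₀ = Spec.map (CommRingCat.ofHom (algebraMap A₀ A)) := (Spec.map_preimage t₀).symm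
  have hX : IsPullback p (f ≫ h) (φ₀ ≫ g₀) (Spec.map (CommRingCat.ofHom (algebraMap A₀ A))) := by
    rw [← ht₀]
    exact hp.paste_vert hq
  obtain ⟨B, hB, G, hG, ⟨e⟩⟩ := Flat2B.GExSC3.exists_model hX F hfp
  have hBN : IsNoetherianRing B := Flat2B.GExSC3.isNoetherianRing_of_fg hB
  -- the model over `B`
  let hB' : pullback g₀ (Flat2B.GExSC3.sl B) ⟶ Spec (CommRingCat.of B) := pullback.snd _ _
  let fB' : Flat2B.GExSC3.YB (φ₀ ≫ g₀) B ⟶ pullback g₀ (Flat2B.GExSC3.sl B) :=
    pullback.lift (pullback.fst _ _ ≫ φ₀) (pullback.snd _ _) (by rw [Category.assoc]; exact pullback.condition)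
  have hfh : fB' ≫ hB' = pullback.snd (φ₀ ≫ g₀) (Flat2B.GExSC3.sl B) := pullback.lift_snd _ _ _
  have hff : fB' ≫ pullback.fst g₀ (Flat2B.GExSC3.sl B) = pullback.fst _ _ ≫ φ₀ := pullback.lift_fst _ _ _
  have b1 : LocallyOfFiniteType (fB' ≫ hB') := by rw [hfh]; infer_instance
  have b2 : QuasiCompact (fB' ≫ hB') := by rw [hfh]; infer_instance
  have b3 : IsNoetherian (Spec (CommRingCat.of B)) := inferInstance
  have hfin := finConstr_of_isNoetherian fB' hB' G hG
  -- the squares
  have hcomp := Flat2B.GExSC3.sa_sl (Λ := A₀) (S := A) B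
  let gY : Y ⟶ pullback g₀ (Flat2B.GExSC3.sl B) := pullback.lift q (h ≫ Flat2B.GExSC3.sa A B) (by
    rw [Category.assoc, hcomp, ← ht₀]; exact hq.w)
  have gY1 : gY ≫ pullback.fst _ _ = q := pullback.lift_fst _ _ _
  have gY2 : gY ≫ hB' = h ≫ Flat2B.GExSC3.sa A B := pullback.lift_snd _ _ _
  have hY : IsPullback gY h hB' (Flat2B.GExSC3.sa A B) := by
    refine IsPullback.of_right ?_ gY2 (IsPullback.of_hasPullback g₀ (Flat2B.GExSC3.sl B))
    rw [hcomp, gY1, ← ht₀]
    exact hq
  have hXB := Flat2B.GExSC3.isPullback_bB hX B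
  have hXB' : IsPullback (Flat2B.GExSC3.bB hX B) (f ≫ h) (fB' ≫ hB') (Flat2B.GExSC3.sa A B) := by
    rw [hfh]
    exact hXB
  have hw : Flat2B.GExSC3.bB hX B ≫ fB' = f ≫ gY := by
    apply pullback.hom_ext
    · rw [Category.assoc, Category.assoc, hff, gY1, ← Category.assoc]
      have := Flat2B.GExSC3.bB_aB hX B
      rw [show Flat2B.GExSC3.bB hX B ≫ pullback.fst (φ₀ ≫ g₀) (Flat2B.GExSC3.sl B) = p from this]
      exact hp.w
    · rw [Category.assoc, Category.assoc, show gY ≫ pullback.snd g₀ (Flat2B.GExSC3.sl B) = _ from gY2]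
      change Flat2B.GExSC3.bB hX B ≫ fB' ≫ hB' = _
      rw [hfh, ← Category.assoc]
      exact hXB.w
  refine ⟨Spec (CommRingCat.of B), Flat2B.GExSC3.sa A B, {s | FF fB' hB' G s ∈ ({True} : Set Prop)},
    (hfin.isConstructible_preimage _).isLocallyConstructible, fun s => ?_⟩
  have h1 := ff_baseChange_iff (F := G) (Flat2B.GExSC3.sa A B) gY h hY (Flat2B.GExSC3.bB hX B) f hXB' hw s
  change FF f h F s ↔ FF fB' hB' G (Flat2B.GExSC3.sa A B s) = True
  refine Iff.trans ?_ ⟨eq_true, of_eq_true⟩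
  rw [← h1]
  exact ⟨ff_of_iso e.symm s, ff_of_iso e s⟩

/-- The set of the points over which the restriction of `F` to the fibre is flat over the fibre of `Y` is locally
constructible. -/
theorem isLocallyConstructible_ff {X Y S : Scheme.{u}} (f : X ⟶ Y) (h : Y ⟶ S)
    [LocallyOfFinitePresentation (f ≫ h)] [QuasiCompact (f ≫ h)] [QuasiSeparated (f ≫ h)]
    [LocallyOfFinitePresentation h] [QuasiCompact h] [QuasiSeparated h] (F : X.Modules) (hfp : CohB1.IsFP F) :
    IsLocallyConstructible {s : S | FF f h F s} := by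
  refine K286.NoethModel.isLocallyConstructible_of_models _ fun U hU => ?_
  have : IsAffine (U : Scheme.{u}) := hU
  let e := (U : Scheme.{u}).isoSpec
  let t : Spec Γ(U, ⊤) ⟶ S := e.inv ≫ U.ι
  let gY : pullback h t ⟶ Y := pullback.fst h t
  let h' : pullback h t ⟶ Spec Γ(U, ⊤) := pullback.snd h t
  let gX : pullback f gY ⟶ X := pullback.fst f gY
  let f' : pullback f gY ⟶ pullback h t := pullback.snd f gY
  have hY : IsPullback gY h' h t := IsPullback.of_hasPullback h t
  have hXY : IsPullback gX f' f gY := IsPullback.of_hasPullback f gY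
  have hX : IsPullback gX (f' ≫ h') (f ≫ h) t := hXY.paste_vert hY
  have a1 : LocallyOfFinitePresentation (f' ≫ h') :=
    MorphismProperty.of_isPullback (P := @LocallyOfFinitePresentation) hX ‹_›
  have a2 : QuasiCompact (f' ≫ h') := MorphismProperty.of_isPullback (P := @QuasiCompact) hX ‹_›
  have a3 : QuasiSeparated (f' ≫ h') := MorphismProperty.of_isPullback (P := @QuasiSeparated) hX ‹_›
  have a4 : LocallyOfFinitePresentation h' :=
    MorphismProperty.of_isPullback (P := @LocallyOfFinitePresentation) hY ‹_›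
  have a5 : QuasiCompact h' := MorphismProperty.of_isPullback (P := @QuasiCompact) hY ‹_›
  have a6 : QuasiSeparated h' := MorphismProperty.of_isPullback (P := @QuasiSeparated) hY ‹_›
  have hFP : CohB1.IsFP ((Scheme.Modules.pullback gX).obj F) := FormalA.PullbackQC.isFP_pullback _ _ hfp
  obtain ⟨S₀, t', E₀, hE₀, hE⟩ := exists_stage f' h' ((Scheme.Modules.pullback gX).obj F) hFP
  refine ⟨S₀, e.hom ≫ t', E₀, hE₀, ?_⟩
  ext s
  have h1 := ff_baseChange_iff (F := F) t gY h' hY gX f' hX hXY.w (e.hom s)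
  have h2 : t (e.hom s) = U.ι s := by
    rw [← Scheme.Hom.comp_apply, ← Category.assoc, Iso.hom_inv_id, Category.id_comp]
  rw [h2] at h1
  change FF f h F (U.ι s) ↔ (e.hom ≫ t') s ∈ E₀
  rw [← h1, hE, Scheme.Hom.comp_apply]

end K63.FibreFlatConstr
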