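import Groth.Agent.S1441
import Groth.Agent.Flat2G.FibreFlatAt
import Groth.Agent.Models2.FlatIso

/-!
# Flatness of the restriction of a module to the fibres: stalks, base change

For `f : X ⟶ Y`, `h : Y ⟶ S` and `F` on `X`:

* `QuotFlat f h F x`: `F_x / 𝔪_s F_x` is flat over `O_{Y,y} / 𝔪_s O_{Y,y}`;
* `FF f h F s`: the restriction of `F` to the fibre over `s` is flat over the fibre `Y_s`;
* `quotFlat_fiberι_iff`, `setOf_quotFlat_eq`: comparison;
* `ff_baseChange_iff`: `FF` is compatible with arbitrary base change.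
-/

set_option autoImplicit false
universe u

open AlgebraicGeometry CategoryTheory CategoryTheory.Limits TopologicalSpace

namespace K63.FibreFlatIff

open Groth.Agent

theorem flat_quotient_iff {B C B' C' M N : Type u} [CommRing B] [CommRing C] [CommRing B'] [CommRing C'] [AddCommGroup M]
    [AddCommGroup N] [Algebra B C] [Algebra C C'] [Algebra B B'] [Algebra B' C'] [Module C M] [Module B M]
    [IsScalarTower B C M] [Module C' N] [Module B' N] [IsScalarTower B' C' N]
    (hcomm : ∀ b : B, algebraMap B' C' (algebraMap B B' b) = algebraMap C C' (algebraMap B C b))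
    (hB : Function.Surjective (algebraMap B B')) (J : Ideal B) (hJ : RingHom.ker (algebraMap B B') = J)
    (hC : RingHom.ker (algebraMap C C') = J.map (algebraMap B C))
    (can : M →+ N) (hcan : ∀ (c : C) (m : M), can (c • m) = algebraMap C C' c • can m)
    (hsurj : Function.Surjective can) (hker : ∀ m, can m = 0 → m ∈ (RingHom.ker (algebraMap C C') • (⊤ : Submodule C M))) :
    Module.Flat (B ⧸ J) (M ⧸ (J • (⊤ : Submodule B M))) ↔ Module.Flat B' N := by
  subst hJ
  let _ : Module B N := Module.compHom N (algebraMap B B')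
  let can' : M →ₗ[B] N :=
    { toFun := can
      map_add' := map_add _
      map_smul' := fun b m => by
        change can (b • m) = algebraMap B B' b • can m
        rw [← algebraMap_smul C b m, hcan, ← hcomm, algebraMap_smul] }
  have hle : RingHom.ker (algebraMap B B') • (⊤ : Submodule B M) ≤ LinearMap.ker can' := by
    rw [Submodule.smul_le]
    intro b hb m _
    change can (b • m) = 0
    rw [← algebraMap_smul C b m, hcan, ← hcomm, (RingHom.mem_ker).mp hb, map_zero, zero_smul]
  have hge : LinearMap.ker can' ≤ RingHom.ker (algebraMap B B') • (⊤ : Submodule B M) := by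
    intro m hm
    have h1 := hker m hm
    rw [hC] at h1
    have h2 := Ideal.smul_restrictScalars (RingHom.ker (algebraMap B B')) (⊤ : Submodule C M)
    rw [Submodule.restrictScalars_top] at h2
    rw [← h2]
    exact h1
  let e : (M ⧸ (RingHom.ker (algebraMap B B') • (⊤ : Submodule B M))) ≃ₗ[B] N :=
    (Submodule.quotEquivOfEq _ _ (le_antisymm hle hge)).trans
      (can'.quotKerEquivOfSurjective hsurj)
  let σ : (B ⧸ RingHom.ker (algebraMap B B')) ≃+* B' := RingHom.quotientKerEquivOfSurjective hB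
  refine Ega3B.FlatRestrict.flat_iff_of_semilinear σ e.toAddEquiv ?_
  intro r m
  obtain ⟨b, rfl⟩ := Ideal.Quotient.mk_surjective r
  have h1 : (Ideal.Quotient.mk (RingHom.ker (algebraMap B B')) b) • m = b • m := by
    obtain ⟨m, rfl⟩ := Submodule.Quotient.mk_surjective _ m
    rfl
  rw [h1]
  change e (b • m) = algebraMap B B' b • e m
  rw [map_smul]
  rfl

section

variable {X Y Y' P : Scheme.{u}} {p : P ⟶ X} {q : P ⟶ Y'} {f : X ⟶ Y} {g : Y' ⟶ Y}

open Fdesc.PullbackStalk Fdesc.FlatBC

theorem flat_quotient_iff_isFlatOverAt (w : p ≫ f = q ≫ g) (F : X.Modules) (z : P) (J : Ideal (Y.presheaf.stalk (f (p z))))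
    (hp : Function.Surjective (p.stalkMap z).hom)
    (hc : Function.Surjective (crossMap w z).hom) (hJ : RingHom.ker (crossMap w z).hom = J)
    (hker : RingHom.ker (p.stalkMap z).hom = J.map (f.stalkMap (p z)).hom) :
    (letI := FlatMod.moduleStalkOver f F (p z)
    Module.Flat (Y.presheaf.stalk (f (p z)) ⧸ J) (F.presheaf.stalk (p z) ⧸ (J • (⊤ : Submodule (Y.presheaf.stalk (f (p z))) (F.presheaf.stalk (p z)))))) ↔
    FlatMod.IsFlatOverAt q ((Scheme.Modules.pullback p).obj F) z := by
  let := FlatMod.moduleStalkOver f F (p z)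
  let := stalkAlg f (p.base z)
  let : Algebra (Y.presheaf.stalk (f.base (p.base z))) (Y'.presheaf.stalk (q.base z)) :=
    (crossMap w z).hom.toAlgebra
  let := stalkAlg p z
  let := stalkAlg q z
  let := FlatMod.moduleStalkOver q ((Scheme.Modules.pullback p).obj F) z
  have := isScalarTower f F (p z)
  have := isScalarTower q ((Scheme.Modules.pullback p).obj F) z
  have hsurj : Function.Surjective (canAdd p F z) := by
    intro t
    have ht : t ∈ Submodule.span (P.presheaf.stalk z) (Set.range (canAdd p F z)) := by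
      rw [span_range_canAdd]; trivial
    induction ht using Submodule.span_induction with
    | mem t ht => exact ht
    | zero => exact ⟨0, map_zero _⟩
    | add a b _ _ ha hb =>
      obtain ⟨a, rfl⟩ := ha
      obtain ⟨b, rfl⟩ := hb
      exact ⟨a + b, map_add _ _ _⟩
    | smul r a _ ha =>
      obtain ⟨a, rfl⟩ := ha
      obtain ⟨r, rfl⟩ := hp r
      exact ⟨r • a, canAdd_smul p F z r a⟩
  refine flat_quotient_iff (C := X.presheaf.stalk (p z)) (B' := Y'.presheaf.stalk (q z)) (C' := P.presheaf.stalk z)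
    (N := ((Scheme.Modules.pullback p).obj F).presheaf.stalk z) ?_ hc J hJ hker (canAdd p F z) (canAdd_smul p F z) hsurj ?_
  · intro b
    exact congr(($(crossMap_comp w z)).hom b)
  · intro t ht
    -- the quotient as a module over the stalk of P
    let I := RingHom.ker (p.stalkMap z).hom
    let Q := F.presheaf.stalk (p z) ⧸ (I • (⊤ : Submodule (X.presheaf.stalk (p z)) (F.presheaf.stalk (p z))))
    let σ : (X.presheaf.stalk (p z) ⧸ I) ≃+* P.presheaf.stalk z := RingHom.quotientKerEquivOfSurjective hp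
    let _ : Module (P.presheaf.stalk z) Q := Module.compHom Q σ.symm.toRingHom
    have hg : ∀ (r : X.presheaf.stalk (p z)) (t : F.presheaf.stalk (p z)),
      (Submodule.mkQ (I • (⊤ : Submodule (X.presheaf.stalk (p z)) (F.presheaf.stalk (p z))))).toAddMonoidHom (r • t) =
        p.stalkMap z r • (Submodule.mkQ (I • (⊤ : Submodule (X.presheaf.stalk (p z)) (F.presheaf.stalk (p z))))).toAddMonoidHom t := by
      intro r t
      have hσ : σ.symm (p.stalkMap z r) = Ideal.Quotient.mk I r := by
        rw [RingEquiv.symm_apply_eq]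
        rfl
      change _ = σ.symm (p.stalkMap z r) •
        (Submodule.mkQ (I • (⊤ : Submodule (X.presheaf.stalk (p z)) (F.presheaf.stalk (p z))))) t
      rw [hσ]
      rfl
    have h1 := lift_canAdd (M := F) (Q := Q) p _ hg t
    rw [ht, map_zero] at h1
    exact (Submodule.Quotient.mk_eq_zero _).mp h1.symm

end

section

variable {X Y S : Scheme.{u}} (f : X ⟶ Y) (h : Y ⟶ S) (F : X.Modules)

/-- `F_x / 𝔪_s F_x` is flat over `O_{Y,y} / 𝔪_s O_{Y,y}`. -/
def QuotFlat (x : X) : Prop :=
  letI := FlatMod.moduleStalkOver f F x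
  Module.Flat (↑(Y.presheaf.stalk (f x)) ⧸ Ideal.map (h.stalkMap (f x)).hom (IsLocalRing.maximalIdeal ↑(S.presheaf.stalk (h (f x)))))
    (↑(F.presheaf.stalk x) ⧸ (Ideal.map (h.stalkMap (f x)).hom (IsLocalRing.maximalIdeal ↑(S.presheaf.stalk (h (f x)))) •
      (⊤ : Submodule ↑(Y.presheaf.stalk (f x)) ↑(F.presheaf.stalk x))))

/-- The restriction of `F` to the fibre over `s` is flat over the fibre of `Y`. -/
def FF (s : S) : Prop :=
  FlatMod.IsFlatOver (MoreMor.fiberMap f h s) ((Scheme.Modules.pullback ((f ≫ h).fiberι s)).obj F)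

theorem quotFlat_fiberι_iff (s : S) (z : ((f ≫ h).fiber s)) :
    QuotFlat f h F ((f ≫ h).fiberι s z) ↔
      FlatMod.IsFlatOverAt (MoreMor.fiberMap f h s) ((Scheme.Modules.pullback ((f ≫ h).fiberι s)).obj F) z := by
  have w : (f ≫ h).fiberι s ≫ f = MoreMor.fiberMap f h s ≫ h.fiberι s := (Limits.pullback.lift_fst _ _ _).symm
  refine flat_quotient_iff_isFlatOverAt w F z _ (Flat2D.FiberStalk.stalkMap_fiberι_surjective (f ≫ h) s z) ?_ ?_ ?_
  · -- crossMap surjective
    rw [Fdesc.FlatBC.crossMap, CommRingCat.hom_comp]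
    refine (Flat2D.FiberStalk.stalkMap_fiberι_surjective h s _).comp
      (Flat2G.FibreFlatAt.stalkSpecializes_bijective _ ?_).2
    exact (congr($w z)).symm
  · have h1 := Flat2D.FiberStalk.ker_stalkMap_fiberι h s (MoreMor.fiberMap f h s z)
    rw [Fdesc.FlatBC.crossMap, CommRingCat.hom_comp, ← RingHom.comap_ker, h1]
    exact Flat2G.FibreFlatAt.comap_stalkSpecializes_fibreIdeal h _ (congr($w z)).symm
  · rw [Flat2D.FiberStalk.ker_stalkMap_fiberι, Flat2D.FiberStalk.fibreIdeal_def, Ideal.map_map,
      Scheme.Hom.stalkMap_comp]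
    rfl

theorem quotFlat_iff_asFiber (x : X) :
    QuotFlat f h F x ↔ FlatMod.IsFlatOverAt (MoreMor.fiberMap f h ((f ≫ h) x))
      ((Scheme.Modules.pullback ((f ≫ h).fiberι ((f ≫ h) x))).obj F) ((f ≫ h).asFiber x) := by
  have h1 := quotFlat_fiberι_iff f h F ((f ≫ h) x) ((f ≫ h).asFiber x)
  rwa [(f ≫ h).fiberι_asFiber x] at h1

theorem apply_fiberι (g : X ⟶ S) (s : S) (z : g.fiber s) : g (g.fiberι s z) = s := by
  have h1 : g.fiberι s z ∈ g ⁻¹' {s} := by
    rw [← g.range_fiberι]
    exact ⟨z, rfl⟩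
  exact h1

theorem ff_iff (s : S) : FF f h F s ↔ ∀ x : X, (f ≫ h) x = s → QuotFlat f h F x := by
  constructor
  · rintro H x rfl
    exact (quotFlat_iff_asFiber f h F x).mpr (H _)
  · intro H z
    exact (quotFlat_fiberι_iff f h F s z).mp (H _ (apply_fiberι _ _ _))

variable {f h F}

theorem ff_of_iso {F' : X.Modules} (e : F ≅ F') (s : S) (H : FF f h F s) : FF f h F' s := fun z =>
  Models2.FlatIso.isFlatOverAt_of_iso _ ((Scheme.Modules.pullback ((f ≫ h).fiberι s)).mapIso e) z (H z)

/-- Compatibility with base change. -/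
theorem ff_baseChange_iff {X' Y' S' : Scheme.{u}} (t : S' ⟶ S) (gY : Y' ⟶ Y) (h' : Y' ⟶ S') (hY : IsPullback gY h' h t)
    (gX : X' ⟶ X) (f' : X' ⟶ Y') (hX : IsPullback gX (f' ≫ h') (f ≫ h) t) (w : gX ≫ f = f' ≫ gY) (s' : S') :
    FF f' h' ((Scheme.Modules.pullback gX).obj F) s' ↔ FF f h F (t s') := by
  obtain ⟨a, ha1, PX⟩ := S1441.exists_fibTo hX s'
  obtain ⟨b, hb1, PY⟩ := S1441.exists_fibTo hY s'
  have PF : IsPullback a (MoreMor.fiberMap f' h' s') (MoreMor.fiberMap f h (t s')) b := by
    rw [← S1441.fiberMap_toSpec f h, ← S1441.fiberMap_toSpec f' h'] at PX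
    refine IsPullback.of_bot PX ?_ PY
    apply (IsPullback.of_hasPullback h (S.fromSpecResidueField (t s'))).hom_ext
    · have e1 : (a ≫ MoreMor.fiberMap f h (t s')) ≫ h.fiberι (t s') =
          (MoreMor.fiberMap f' h' s' ≫ b) ≫ h.fiberι (t s') := by
        rw [Category.assoc, Category.assoc, S1441.fiberMap_fiberι, hb1, ← Category.assoc, ha1, Category.assoc, w,
          ← Category.assoc (MoreMor.fiberMap f' h' s'), S1441.fiberMap_fiberι, Category.assoc]
      exact e1
    · have e2 : (a ≫ MoreMor.fiberMap f h (t s')) ≫ h.fiberToSpecResidueField (t s') =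
          (MoreMor.fiberMap f' h' s' ≫ b) ≫ h.fiberToSpecResidueField (t s') := by
        rw [Category.assoc, Category.assoc, PY.w]
        exact PX.w.trans (Category.assoc _ _ _)
      exact e2
  have hfl : Flat b := by
    have : Flat (Spec.map (t.residueFieldMap s')) := inferInstance
    exact MorphismProperty.of_isPullback PY.flip this
  have hsu : Surjective b := by
    have : Surjective (Spec.map (t.residueFieldMap s')) := inferInstance
    exact MorphismProperty.of_isPullback PY.flip this
  let e : (Scheme.Modules.pullback ((f' ≫ h').fiberι s')).obj ((Scheme.Modules.pullback gX).obj F) ≅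
      (Scheme.Modules.pullback a).obj ((Scheme.Modules.pullback ((f ≫ h).fiberι (t s'))).obj F) :=
    (Scheme.Modules.pullbackComp ((f' ≫ h').fiberι s') gX).app F ≪≫
      (Scheme.Modules.pullbackCongr ha1.symm).app F ≪≫
      ((Scheme.Modules.pullbackComp a ((f ≫ h).fiberι (t s'))).app F).symm
  refine Iff.trans ?_ (Fdesc.FlatBC.isFlatOver_iff PF ((Scheme.Modules.pullback ((f ≫ h).fiberι (t s'))).obj F)).symm
  exact ⟨Models2.FlatIso.isFlatOver_of_iso _ e, Models2.FlatIso.isFlatOver_of_iso _ e.symm⟩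

end

end K63.FibreFlatIff
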