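import Groth.Agent.PerfB.ApproxFlat
import Groth.Agent.FlatA.FlatDescent
import Groth.Agent.Flat2G.FlatLocus

/-!
# Descent of flatness at a point to a finite level model

`exists_up_flatAt`: if `F` is `f`-flat at `x` then for a suitable finitely generated subring `C` the module of the
model `m.up C h` is flat over `C` at the image of `x`.
-/

set_option autoImplicit false
universe u
open CategoryTheory CategoryTheory.Limits AlgebraicGeometry Opposite TopologicalSpace TensorProduct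

namespace K63.FlatAtStage

open Groth.Agent Groth.Agent.PerfB.ApproxRing Groth.Agent.PerfB.ApproxTower Groth.Agent.PerfB.ApproxMdl
  Groth.Agent.PerfB.ApproxFlat Groth.Agent.VarietyB.PullSec

theorem flat_loc_iff {A A' S N : Type u} [CommRing A] [CommRing A'] [CommRing S] [Algebra A A'] [Algebra A' S]
    [Algebra A S] [IsScalarTower A A' S]
    [AddCommGroup N] [Module S N] [Module A N] [Module A' N] [IsScalarTower A' S N] [IsScalarTower A S N]
    (hb : Function.Bijective (algebraMap A A')) (q : Submonoid S) :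
    Module.Flat A (LocalizedModule q N) ↔ Module.Flat A' (LocalizedModule q N) := by
  have : IsScalarTower A A' N := IsScalarTower.of_algebraMap_smul fun r n => by
    rw [← IsScalarTower.algebraMap_smul S (algebraMap A A' r) n, ← IsScalarTower.algebraMap_smul S r n,
      ← IsScalarTower.algebraMap_apply A A' S]
  have h0 : IsScalarTower A A' (LocalizedModule q N) := inferInstance
  constructor
  · intro h
    let e := RingEquiv.ofBijective (algebraMap A A') hb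
    let : Algebra A' A := e.symm.toRingHom.toAlgebra
    have : IsScalarTower A' A (LocalizedModule q N) := IsScalarTower.of_algebraMap_smul fun r n => by
      have : algebraMap A A' (algebraMap A' A r) = r := e.apply_symm_apply r
      rw [← IsScalarTower.algebraMap_smul A' (algebraMap A' A r) n, this]
    have : Module.Flat A' A := (RingHom.Flat.of_bijective (f := e.symm.toRingHom) e.symm.bijective :)
    exact Module.Flat.trans A' A _
  · intro h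
    have : Module.Flat A A' := RingHom.flat_algebraMap_iff.mp (RingHom.Flat.of_bijective hb)
    exact Module.Flat.trans A A' _

/-- Flatness over `Spec A` at a point of an affine open. -/
theorem isFlatOverAt_iff_loc {A : Type u} [CommRing A] {X : Scheme.{u}} (f : X ⟶ Spec (CommRingCat.of A))
    (M : X.Modules) (hM : Coh.IsQCoh M) {V : X.Opens} (hV : IsAffineOpen V) (x : X) (hx : x ∈ V) :
    letI := algA f V
    letI := modA f M V
    haveI : IsScalarTower A Γ(X, V) Γ(M, V) := IsScalarTower.of_algebraMap_smul fun _ _ => rfl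
    FlatMod.IsFlatOverAt f M x ↔
      Module.Flat A (LocalizedModule (hV.primeIdealOf ⟨x, hx⟩).asIdeal.primeCompl Γ(M, V)) := by
  let i1 := algA f V
  let i2 := modA f M V
  have s1 : IsScalarTower A Γ(X, V) Γ(M, V) := IsScalarTower.of_algebraMap_smul fun _ _ => rfl
  rw [Flat2G.FlatLocus.isFlatOverAt_iff f M hM hV (isAffineOpen_top _) (le_pre_top f V) x hx]
  let i3 : Algebra Γ(Spec (CommRingCat.of A), ⊤) Γ(X, V) := (f.appLE ⊤ V (le_pre_top f V)).hom.toAlgebra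
  let i4 : Module Γ(Spec (CommRingCat.of A), ⊤) Γ(M, V) := Module.compHom _ (f.appLE ⊤ V (le_pre_top f V)).hom
  let i5 : Algebra A Γ(Spec (CommRingCat.of A), ⊤) := (Scheme.ΓSpecIso (CommRingCat.of A)).inv.hom.toAlgebra
  have s2 : IsScalarTower Γ(Spec (CommRingCat.of A), ⊤) Γ(X, V) Γ(M, V) :=
    IsScalarTower.of_algebraMap_smul fun _ _ => rfl
  have s3 : IsScalarTower A Γ(Spec (CommRingCat.of A), ⊤) Γ(X, V) := IsScalarTower.of_algebraMap_eq fun _ => rfl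
  have hb : Function.Bijective (Scheme.ΓSpecIso (CommRingCat.of A)).inv.hom :=
    (ConcreteCategory.isIso_iff_bijective _).mp inferInstance
  exact (flat_loc_iff hb _).symm

/-- Descent of flatness at a point to a finitely generated subalgebra, geometric form. -/
theorem exists_subalgebra {R A : Type u} [CommRing R] [IsNoetherianRing R] [CommRing A] [Algebra R A]
    {Y X : Scheme.{u}} {h : Y ⟶ Spec (CommRingCat.of R)} {f : X ⟶ Spec (CommRingCat.of A)} {g : X ⟶ Y}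
    (H : IsPullback g f h (Spec.map (CommRingCat.ofHom (algebraMap R A)))) [LocallyOfFinitePresentation h]
    (G : Y.Modules) (hG : CohB1.IsFP G) (x : X)
    (hf : FlatMod.IsFlatOverAt f ((Scheme.Modules.pullback g).obj G) x) :
    ∃ A₁ : Subalgebra R A, A₁.FG ∧ ∀ {Y₂ : Scheme.{u}} {f₂ : Y₂ ⟶ Spec (CommRingCat.of A₁)} {p : Y₂ ⟶ Y} {g₂ : X ⟶ Y₂}
      (_ : IsPullback p f₂ h (Spec.map (CommRingCat.ofHom (algebraMap R A₁))))
      (_ : g₂ ≫ f₂ = f ≫ Spec.map (CommRingCat.ofHom (algebraMap A₁ A))) (_ : g₂ ≫ p = g),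
      FlatMod.IsFlatOverAt f₂ ((Scheme.Modules.pullback p).obj G) (g₂ x) := by
  have hGq : Coh.IsQCoh G := Models2.FPCoh.isQCoh_of_isFP hG
  have hG' : Coh.IsQCoh ((Scheme.Modules.pullback g).obj G) := isQCoh_pullback g G hGq
  have haff : IsAffineHom g := MorphismProperty.of_isPullback H.flip
    (inferInstanceAs (IsAffineHom (Spec.map (CommRingCat.ofHom (algebraMap R A)))))
  obtain ⟨V, hV, hxV, -⟩ := exists_isAffineOpen_mem_and_subset (x := g x) (U := ⊤) trivial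
  have hU : IsAffineOpen (g ⁻¹ᵁ V) := hV.preimage g
  -- algebra data
  let i1 := algA h V
  let i2 := modA h G V
  let i3 := algA f (g ⁻¹ᵁ V)
  let i4 := modA f ((Scheme.Modules.pullback g).obj G) (g ⁻¹ᵁ V)
  let i5 : Algebra Γ(Y, V) Γ(X, g ⁻¹ᵁ V) := (g.appLE V (g ⁻¹ᵁ V) le_rfl).hom.toAlgebra
  let i6 : Algebra R Γ(X, g ⁻¹ᵁ V) := ((scal f (g ⁻¹ᵁ V)).comp (algebraMap R A)).toAlgebra
  let i7 := secModule g G (le_rfl : g ⁻¹ᵁ V ≤ g ⁻¹ᵁ V)
  have t1 : IsScalarTower R A Γ(X, g ⁻¹ᵁ V) := IsScalarTower.of_algebraMap_eq fun _ => rfl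
  have t2 : IsScalarTower R Γ(Y, V) Γ(X, g ⁻¹ᵁ V) := IsScalarTower.of_algebraMap_eq fun r =>
    (scal_appLE (algebraMap R A) h H.w (W := V) (V := g ⁻¹ᵁ V) le_rfl r).symm
  have hP := isPushout_scal (algebraMap R A) H hV
  rw [← Scheme.Hom.appLE_eq_app g] at hP
  have hPA : Algebra.IsPushout R A Γ(Y, V) Γ(X, g ⁻¹ᵁ V) := CommRingCat.isPushout_iff_isPushout.mp hP
  have s1 : IsScalarTower R Γ(Y, V) Γ(G, V) := IsScalarTower.of_algebraMap_smul fun _ _ => rfl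
  have s2 : IsScalarTower A Γ(X, g ⁻¹ᵁ V) Γ((Scheme.Modules.pullback g).obj G, g ⁻¹ᵁ V) :=
    IsScalarTower.of_algebraMap_smul fun _ _ => rfl
  have s3 : IsScalarTower Γ(Y, V) Γ(X, g ⁻¹ᵁ V) Γ((Scheme.Modules.pullback g).obj G, g ⁻¹ᵁ V) :=
    IsScalarTower.of_algebraMap_smul fun _ _ => rfl
  have hb := isBaseChange_secₗ g G (le_rfl : g ⁻¹ᵁ V ≤ g ⁻¹ᵁ V) hGq hV hU
  have hfp : Algebra.FinitePresentation R Γ(Y, V) := by
    have h4 := HasRingHomProperty.appLE (P := @LocallyOfFinitePresentation) h inferInstance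
      ⟨⊤, isAffineOpen_top _⟩ ⟨V, hV⟩ (le_pre_top h V)
    have hb : Function.Bijective (Scheme.ΓSpecIso (CommRingCat.of R)).inv.hom :=
      (ConcreteCategory.isIso_iff_bijective _).mp inferInstance
    have h5 : (scal h V).FinitePresentation :=
      RingHom.FinitePresentation.comp h4 (RingHom.FinitePresentation.of_bijective hb)
    exact h5
  have hMfp : Module.FinitePresentation Γ(Y, V) Γ(G, V) :=
    Desc.FPSections.finitePresentation_sections hV hGq hG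
  have hfl : Module.Flat A (LocalizedModule (hU.primeIdealOf ⟨x, hxV⟩).asIdeal.primeCompl
      Γ((Scheme.Modules.pullback g).obj G, g ⁻¹ᵁ V)) :=
    (isFlatOverAt_iff_loc f _ hG' hU x hxV).mp hf
  obtain ⟨A₁, hA₁, K⟩ := FlatA.FlatDescent.exists_subalgebra_flat (A := R) (B := Γ(Y, V)) (R := A)
    (secₗ g G (le_rfl : g ⁻¹ᵁ V ≤ g ⁻¹ᵁ V)) hb (hU.primeIdealOf ⟨x, hxV⟩).asIdeal hfl
  refine ⟨A₁, hA₁, fun {Y₂ f₂ p g₂} H₁ w₂ w => ?_⟩
  have haff₁ : IsAffineHom p := MorphismProperty.of_isPullback H₁.flip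
    (inferInstanceAs (IsAffineHom (Spec.map (CommRingCat.ofHom (algebraMap R A₁)))))
  have hU₂ : IsAffineOpen (p ⁻¹ᵁ V) := hV.preimage p
  have hle : g ⁻¹ᵁ V ≤ g₂ ⁻¹ᵁ (p ⁻¹ᵁ V) := by rw [← w]; rfl
  let j1 : Algebra A₁ Γ(Y₂, p ⁻¹ᵁ V) := algA f₂ (p ⁻¹ᵁ V)
  let j2 : Algebra R Γ(Y₂, p ⁻¹ᵁ V) := ((scal f₂ (p ⁻¹ᵁ V)).comp (algebraMap R A₁)).toAlgebra
  let j3 : Algebra Γ(Y, V) Γ(Y₂, p ⁻¹ᵁ V) := (p.appLE V (p ⁻¹ᵁ V) le_rfl).hom.toAlgebra
  let j4 : Algebra Γ(Y₂, p ⁻¹ᵁ V) Γ(X, g ⁻¹ᵁ V) := (g₂.appLE (p ⁻¹ᵁ V) (g ⁻¹ᵁ V) hle).hom.toAlgebra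
  let j5 := secModule p G (le_rfl : p ⁻¹ᵁ V ≤ p ⁻¹ᵁ V)
  let j6 := modA f₂ ((Scheme.Modules.pullback p).obj G) (p ⁻¹ᵁ V)
  have u1 : IsScalarTower R A₁ Γ(Y₂, p ⁻¹ᵁ V) := IsScalarTower.of_algebraMap_eq fun _ => rfl
  have u2 : IsScalarTower R Γ(Y, V) Γ(Y₂, p ⁻¹ᵁ V) := IsScalarTower.of_algebraMap_eq fun r =>
    (scal_appLE (algebraMap R A₁) h H₁.w (W := V) (V := p ⁻¹ᵁ V) le_rfl r).symm
  have hP₁ := isPushout_scal (algebraMap R A₁) H₁ hV
  rw [← Scheme.Hom.appLE_eq_app p] at hP₁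
  have u3 : Algebra.IsPushout R A₁ Γ(Y, V) Γ(Y₂, p ⁻¹ᵁ V) := CommRingCat.isPushout_iff_isPushout.mp hP₁
  have u4 : IsScalarTower Γ(Y, V) Γ(Y₂, p ⁻¹ᵁ V) Γ(X, g ⁻¹ᵁ V) := IsScalarTower.of_algebraMap_eq fun r => by
    have h1 := Scheme.Hom.appLE_comp_appLE g₂ p V (p ⁻¹ᵁ V) (g ⁻¹ᵁ V) le_rfl hle
    have h2 := congr($h1 r)
    refine Eq.trans ?_ h2.symm
    change (g.appLE V (g ⁻¹ᵁ V) le_rfl) r = _
    congr 2
    simp only [w]
  have u5 : IsScalarTower A₁ Γ(Y₂, p ⁻¹ᵁ V) Γ(X, g ⁻¹ᵁ V) := IsScalarTower.of_algebraMap_eq fun r =>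
    (scal_appLE (algebraMap A₁ A) f₂ w₂ (W := p ⁻¹ᵁ V) (V := g ⁻¹ᵁ V) hle r).symm
  have u6 : IsScalarTower A₁ Γ(Y₂, p ⁻¹ᵁ V) Γ((Scheme.Modules.pullback p).obj G, p ⁻¹ᵁ V) :=
    IsScalarTower.of_algebraMap_smul fun _ _ => rfl
  have u7 : IsScalarTower Γ(Y, V) Γ(Y₂, p ⁻¹ᵁ V) Γ((Scheme.Modules.pullback p).obj G, p ⁻¹ᵁ V) :=
    IsScalarTower.of_algebraMap_smul fun _ _ => rfl
  have hb₂ := isBaseChange_secₗ p G (le_rfl : p ⁻¹ᵁ V ≤ p ⁻¹ᵁ V) hGq hV hU₂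
  have hfl₂ := K A₁ le_rfl Γ(Y₂, p ⁻¹ᵁ V) Γ((Scheme.Modules.pullback p).obj G, p ⁻¹ᵁ V)
    (secₗ p G (le_rfl : p ⁻¹ᵁ V ≤ p ⁻¹ᵁ V)) hb₂
  have hx₂ : g₂ x ∈ p ⁻¹ᵁ V := hle hxV
  refine (isFlatOverAt_iff_loc f₂ _ (isQCoh_pullback p G hGq) hU₂ (g₂ x) hx₂).mpr ?_
  have hprime : (hU₂.primeIdealOf ⟨g₂ x, hx₂⟩).asIdeal =
      (hU.primeIdealOf ⟨x, hxV⟩).asIdeal.under Γ(Y₂, p ⁻¹ᵁ V) :=
    congr($(IsAffineOpen.comap_primeIdealOf_appLE (f := g₂) (x := x) (p ⁻¹ᵁ V) hU₂ (g ⁻¹ᵁ V) hU hle hxV).1).symm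
  have key : ∀ (q q' : Ideal Γ(Y₂, p ⁻¹ᵁ V)) (_ : q.IsPrime) (_ : q'.IsPrime), q = q' →
      Module.Flat A₁ (LocalizedModule q'.primeCompl Γ((Scheme.Modules.pullback p).obj G, p ⁻¹ᵁ V)) →
      Module.Flat A₁ (LocalizedModule q.primeCompl Γ((Scheme.Modules.pullback p).obj G, p ⁻¹ᵁ V)) := by
    rintro q _ _ _ rfl h
    exact h
  exact key _ _ _ _ hprime hfl₂

section

variable {A : Type u} [CommRing A] {X : Scheme.{u}} {f : X ⟶ Spec (CommRingCat.of A)} {F : X.Modules}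
  (m : Mdl f F)

theorem exists_up_flatAt (x : X) (hf : FlatMod.IsFlatOverAt f F x) :
    ∃ (C : Idx A) (h : m.B ≤ C), FlatMod.IsFlatOverAt (m.up C h).h (m.up C h).G ((m.up C h).g x) := by
  have := m.lfp
  have hf' : FlatMod.IsFlatOverAt f ((Scheme.Modules.pullback m.g).obj m.G) x :=
    Models2.FlatIso.isFlatOverAt_of_iso f m.e.symm x hf
  obtain ⟨A₁, hA₁, K⟩ := exists_subalgebra (R := m.B.1) (A := A) m.pb m.G m.fp x hf'
  have hCfg : (A₁.restrictScalars ℤ).FG := by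
    have h1 : Algebra.FiniteType m.B.1 A₁ := A₁.fg_iff_finiteType.mp hA₁
    have h2 : Algebra.FiniteType ℤ m.B.1 := (Subalgebra.fg_iff_finiteType m.B.1).1 m.B.2
    have : Algebra.FiniteType ℤ A₁ := Algebra.FiniteType.trans (S := m.B.1) inferInstance inferInstance
    exact (A₁.restrictScalars ℤ).fg_iff_finiteType.mpr this
  let C : Idx A := ⟨A₁.restrictScalars ℤ, hCfg⟩
  have h : m.B ≤ C := fun b hb => A₁.algebraMap_mem ⟨b, hb⟩
  refine ⟨C, h, ?_⟩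
  exact K (Y₂ := m.Yup h) (f₂ := m.hup h) (p := m.pup h) (g₂ := m.gup h)
    (IsPullback.of_hasPullback m.h (si h)) (m.gup_hup h) (m.gup_pup h)

end

end K63.FlatAtStage
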