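import Groth.Agent.S4850
import Groth.Agent.S4851
import Groth.Agent.LoccohB.HHmap
import Mathlib.RingTheory.Regular.RegularSequence

/-!
# Openness of the locus where a sequence of sections is weakly regular on the fibres
-/

set_option autoImplicit false
universe u

open AlgebraicGeometry CategoryTheory CategoryTheory.Limits TopologicalSpace
open scoped Pointwise

namespace K63.RegOpen

open Groth.Agent Groth.Agent.CycB.StalkExact

section Alg

variable {R : Type*} [CommRing R] {M C : Type*} [AddCommGroup M] [Module R M] [AddCommGroup C] [Module R C]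

/-- `(M / JM) / r (M / JM) = C / JC` for `C = M / r M`. -/
theorem nonempty_quotSMulTop_equiv (J : Ideal R) (r : R) (p : M →ₗ[R] C) (hp : Function.Surjective p)
    (hk : ∀ m, p m = 0 ↔ ∃ n, r • n = m) :
    Nonempty (QuotSMulTop r (M ⧸ J • (⊤ : Submodule R M)) ≃ₗ[R] C ⧸ J • (⊤ : Submodule R C)) := by
  let a : M →ₗ[R] QuotSMulTop r (M ⧸ J • (⊤ : Submodule R M)) := (Submodule.mkQ _).comp (Submodule.mkQ _)
  let b : M →ₗ[R] C ⧸ J • (⊤ : Submodule R C) := (Submodule.mkQ _).comp p
  have ha : Function.Surjective a := (Submodule.mkQ_surjective _).comp (Submodule.mkQ_surjective _)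
  have hb : Function.Surjective b := (Submodule.mkQ_surjective _).comp hp
  have hker : LinearMap.ker a = LinearMap.ker b := by
    have h1 : LinearMap.ker a = J • (⊤ : Submodule R M) ⊔ r • (⊤ : Submodule R M) := by
      rw [LinearMap.ker_comp, Submodule.ker_mkQ]
      apply le_antisymm
      · intro m hm
        rw [Submodule.mem_comap] at hm
        obtain ⟨n, -, hn⟩ := (Submodule.mem_smul_pointwise_iff_exists _ _ _).mp hm
        obtain ⟨n, rfl⟩ := Submodule.mkQ_surjective _ n
        rw [← map_smul, Submodule.mkQ_apply, Submodule.mkQ_apply, eq_comm, Submodule.Quotient.eq] at hn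
        have : m = (m - r • n) + r • n := by abel
        rw [this]
        exact Submodule.add_mem_sup hn (Submodule.smul_mem_pointwise_smul _ _ _ trivial)
      · refine sup_le ?_ ?_
        · intro m hm
          rw [Submodule.mem_comap, Submodule.mkQ_apply, (Submodule.Quotient.mk_eq_zero _).mpr hm]
          exact Submodule.zero_mem _
        · intro m hm
          obtain ⟨n, -, rfl⟩ := (Submodule.mem_smul_pointwise_iff_exists _ _ _).mp hm
          rw [Submodule.mem_comap, map_smul]
          exact Submodule.smul_mem_pointwise_smul _ _ _ trivial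
    have h2 : LinearMap.ker b = J • (⊤ : Submodule R M) ⊔ r • (⊤ : Submodule R M) := by
      rw [LinearMap.ker_comp, Submodule.ker_mkQ]
      have h3 : J • (⊤ : Submodule R C) = (J • (⊤ : Submodule R M)).map p := by
        rw [Submodule.map_smul'', Submodule.map_top, LinearMap.range_eq_top.mpr hp]
      have h4 : LinearMap.ker p = r • (⊤ : Submodule R M) := by
        ext m
        rw [LinearMap.mem_ker, hk, Submodule.mem_smul_pointwise_iff_exists]
        constructor
        · rintro ⟨n, hn⟩
          exact ⟨n, trivial, hn⟩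
        · rintro ⟨n, -, hn⟩
          exact ⟨n, hn⟩
      rw [h3, Submodule.comap_map_eq, h4]
    rw [h1, h2]
  exact ⟨(a.quotKerEquivOfSurjective ha).symm.trans
    ((Submodule.quotEquivOfEq _ _ hker).trans (b.quotKerEquivOfSurjective hb))⟩

end Alg

variable {X Y : Scheme.{u}} (f : X ⟶ Y)

/-- the fibre module `F_x / m_y F_x` -/
abbrev FibM (F : X.Modules) (x : X) : Type u :=
  F.presheaf.stalk x ⧸ (Ideal.map (f.stalkMap x).hom (IsLocalRing.maximalIdeal ↑(Y.presheaf.stalk (f x))) •
          (⊤ : Submodule ↑(X.presheaf.stalk x) ↑(F.presheaf.stalk x)))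

theorem stalkLin_smulHom (F : X.Modules) (g : Γ(X, ⊤)) (x : X) (m : F.presheaf.stalk x) :
    stalkLin (LoccohB.HHmap.smulHom F g) x m = X.presheaf.germ ⊤ x trivial g • m := by
  obtain ⟨U, hx, s, rfl⟩ := F.presheaf.exists_germ_eq m
  rw [stalkLin_germ, LoccohB.HHmap.smulHom_app, Fdesc.QCohStalk.germ_smul', LoccohB.GlueHom.resO_apply,
    TopCat.Presheaf.germ_res_apply]

/-- the fibre module of the cokernel of multiplication by `g` -/
theorem nonempty_equiv (F : X.Modules) (g : Γ(X, ⊤)) (x : X) :
    Nonempty (QuotSMulTop (X.presheaf.germ ⊤ x trivial g) (FibM f F x) ≃ₗ[X.presheaf.stalk x]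
      FibM f (cokernel (LoccohB.HHmap.smulHom F g)) x) := by
  let u := LoccohB.HHmap.smulHom F g
  refine nonempty_quotSMulTop_equiv _ _ (stalkLin (cokernel.π u) x) (stalkLin_surjective (cokernel.π u) x) ?_
  intro m
  have hex := stalkLin_exact (ShortComplex.mk u (cokernel.π u) (cokernel.condition u))
    (ShortComplex.exact_cokernel u) x m
  constructor
  · intro h
    obtain ⟨n, hn⟩ := hex.mp h
    exact ⟨n, by rw [← stalkLin_smulHom]; exact hn⟩
  · rintro ⟨n, hn⟩
    exact hex.mpr ⟨n, by rw [← hn, ← stalkLin_smulHom]⟩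

theorem isOpen_aux [LocallyOfFinitePresentation f] : ∀ (gs : List Γ(X, ⊤)) (F : X.Modules), Coh.IsQCoh F → CohB1.IsFP F →
    IsOpen {x : X | FlatMod.IsFlatOverAt f F x ∧ RingTheory.Sequence.IsWeaklyRegular (FibM f F x)
        (gs.map (X.presheaf.germ ⊤ x trivial))} := by
  intro gs
  induction gs with
  | nil =>
    intro F hF hF'
    simpa using Flat2G.FlatLocus.isOpen_flatLocus f F hF hF'
  | cons g gs ih =>
    intro F hF hF'
    let u := LoccohB.HHmap.smulHom F g
    have : Coh.IsQCoh F := hF
    have hC : Coh.IsQCoh (cokernel u) := PerfA.QCohSerre.isQCoh_cokernel u hF hF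
    have hC' : CohB1.IsFP (cokernel u) := Smoothlim.FPMod.isFP_cokernel u hF' hF'
    have h1 := ih (cokernel u) hC hC'
    have h2 := Flat2G.FlatLocus.isOpen_flatLocus f F hF hF'
    have h3 := S4851.result f F F hF' hF' u
    have h4 := (h2.inter h3).inter h1
    convert h4 using 1
    ext x
    simp only [Set.mem_ofPred_eq, Set.mem_inter_iff, List.map_cons, RingTheory.Sequence.isWeaklyRegular_cons_iff]
    constructor
    · rintro ⟨hfl, hreg, hw⟩
      have h5 := (S4850.result f F F hF' hF' u x hfl).mpr (by
        intro m hm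
        have h6 : stalkLin u x m ∈ (Ideal.map (f.stalkMap x).hom (IsLocalRing.maximalIdeal ↑(Y.presheaf.stalk (f x))) •
          (⊤ : Submodule ↑(X.presheaf.stalk x) ↑(F.presheaf.stalk x))) := hm
        rw [stalkLin_smulHom] at h6
        rw [← Submodule.Quotient.mk_eq_zero] at h6 ⊢
        rw [Submodule.Quotient.mk_smul] at h6
        exact hreg (by simpa using h6))
      exact ⟨⟨hfl, h5⟩, h5.2, ((nonempty_equiv f F g x).some.isWeaklyRegular_congr _).mp hw⟩
    · rintro ⟨⟨hfl, h5⟩, -, hw⟩
      refine ⟨hfl, ?_, ((nonempty_equiv f F g x).some.isWeaklyRegular_congr _).mpr hw⟩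
      have h6 := (S4850.result f F F hF' hF' u x hfl).mp h5
      rw [isSMulRegular_iff_right_eq_zero_of_smul]
      intro m hm
      obtain ⟨m, rfl⟩ := Submodule.mkQ_surjective _ m
      rw [← map_smul, Submodule.mkQ_apply, Submodule.Quotient.mk_eq_zero] at hm
      rw [Submodule.mkQ_apply, Submodule.Quotient.mk_eq_zero]
      exact h6 m (by
        have h7 := stalkLin_smulHom F g x m
        rw [← h7] at hm
        exact hm)

end K63.RegOpen
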